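import Mathlib.RingTheory.MvPolynomial.Symmetric.Defs
import Mathlib.RingTheory.Ideal.KrullsHeightTheorem
import Mathlib.RingTheory.Polynomial.Quotient
import Mathlib.RingTheory.Polynomial.UniqueFactorization
import Mathlib.Algebra.MvPolynomial.Equiv
import Mathlib.Algebra.MvPolynomial.Division
import Mathlib.RingTheory.Localization.FractionRing
import Mathlib.Algebra.Polynomial.RingDivision
import Mathlib.Tactic.LinearCombination

/-! Irreducibility of `V(σ₂, σ₄)` in affine five-space. -/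

set_option autoImplicit false
universe u

open scoped Polynomial

namespace SymIrrLib

/-- A quadratic polynomial with an Eisenstein-like obstruction. -/
theorem irreducible_quadratic {R : Type u} [CommRing R] [IsDomain R] [UniqueFactorizationMonoid R]
    {P s v : R} (hs : Prime s) (hsP : ¬ s ∣ P) (hsv : ¬ s ∣ v) :
    Irreducible (Polynomial.C P * Polynomial.X ^ 2 + Polynomial.C (s ^ 2) * Polynomial.X + Polynomial.C (s * v)) := by
  have hP : P ≠ 0 := fun h => hsP (h ▸ dvd_zero s)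
  have hdeg : (Polynomial.C P * Polynomial.X ^ 2 + Polynomial.C (s ^ 2) * Polynomial.X +
      Polynomial.C (s * v)).natDegree = 2 := Polynomial.natDegree_quadratic hP
  refine ⟨fun h => ?_, fun a b hab => ?_⟩
  · have := Polynomial.natDegree_eq_zero_of_isUnit h
    omega
  have ha0 : a ≠ 0 := fun h => by rw [h, zero_mul] at hab; rw [hab] at hdeg; simp at hdeg
  have hb0 : b ≠ 0 := fun h => by rw [h, mul_zero] at hab; rw [hab] at hdeg; simp at hdeg
  have hsum : a.natDegree + b.natDegree = 2 := by rw [← Polynomial.natDegree_mul ha0 hb0, ← hab, hdeg]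
  have const : ∀ c q : R[X], Polynomial.C P * Polynomial.X ^ 2 + Polynomial.C (s ^ 2) * Polynomial.X +
      Polynomial.C (s * v) = c * q → c.natDegree = 0 → IsUnit c := by
    intro c q hcq hc
    obtain ⟨r, rfl⟩ := Polynomial.natDegree_eq_zero.1 hc
    refine Polynomial.isUnit_C.2 ?_
    have h2 := congrArg (fun p => Polynomial.coeff p 2) hcq
    have h1 := congrArg (fun p => Polynomial.coeff p 1) hcq
    simp only [Polynomial.coeff_C_mul, Polynomial.coeff_add, Polynomial.coeff_X_pow, Polynomial.coeff_X,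
      Polynomial.coeff_C] at h2 h1
    norm_num at h2 h1
    exact (((hs.irreducible.isRelPrime_iff_not_dvd).2 hsP).pow_left (m := 2)) ⟨_, h1⟩ ⟨_, h2⟩
  rcases (by omega : a.natDegree = 0 ∨ b.natDegree = 0 ∨ (a.natDegree = 1 ∧ b.natDegree = 1)) with h | h | ⟨h1, h2⟩
  · exact Or.inl (const a b hab h)
  · exact Or.inr (const b a (by rw [hab, mul_comm]) h)
  exfalso
  obtain ⟨a₁, a₀, rfl⟩ : ∃ x y : R, a = Polynomial.C x * Polynomial.X + Polynomial.C y :=
    ⟨_, _, Polynomial.eq_X_add_C_of_natDegree_le_one h1.le⟩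
  obtain ⟨b₁, b₀, rfl⟩ : ∃ x y : R, b = Polynomial.C x * Polynomial.X + Polynomial.C y :=
    ⟨_, _, Polynomial.eq_X_add_C_of_natDegree_le_one h2.le⟩
  rw [show (Polynomial.C a₁ * Polynomial.X + Polynomial.C a₀) * (Polynomial.C b₁ * Polynomial.X + Polynomial.C b₀) =
    Polynomial.C (a₁ * b₁) * Polynomial.X ^ 2 + Polynomial.C (a₁ * b₀ + a₀ * b₁) * Polynomial.X +
      Polynomial.C (a₀ * b₀) by simp only [map_mul, map_add]; ring] at hab
  have c2 := congrArg (fun p => Polynomial.coeff p 2) hab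
  have c1 := congrArg (fun p => Polynomial.coeff p 1) hab
  have c0 := congrArg (fun p => Polynomial.coeff p 0) hab
  simp only [Polynomial.coeff_C_mul, Polynomial.coeff_add, Polynomial.coeff_X_pow, Polynomial.coeff_X,
    Polynomial.coeff_C] at c2 c1 c0
  norm_num at c2 c1 c0
  have key : ∀ x₁ x₀ y₁ y₀ : R, P = x₁ * y₁ → s ^ 2 = x₁ * y₀ + x₀ * y₁ → s * v = x₀ * y₀ → s ∣ x₀ → False := by
    intro x₁ x₀ y₁ y₀ e2 e1 e0 hx
    have h : s ∣ x₁ * y₀ := (dvd_add_left (dvd_mul_of_dvd_left hx y₁)).1 (e1 ▸ dvd_pow_self s two_ne_zero)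
    have hy : s ∣ y₀ := (hs.dvd_or_dvd h).resolve_left fun h' => hsP (e2 ▸ dvd_mul_of_dvd_left h' y₁)
    obtain ⟨x, rfl⟩ := hx
    obtain ⟨y, rfl⟩ := hy
    exact hsv ⟨x * y, mul_left_cancel₀ hs.ne_zero (by rw [e0]; ring)⟩
  rcases hs.dvd_or_dvd (a := a₀) (b := b₀) ⟨v, c0.symm⟩ with h | h
  · exact key a₁ a₀ b₁ b₀ c2 c1 c0 h
  · exact key b₁ b₀ a₁ a₀ (by rw [c2, mul_comm]) (by rw [c1]; ring) (by rw [c0, mul_comm]) h

variable (k : Type u) [Field k]

open MvPolynomial (X eval finSuccEquiv)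

/-- `e₁` in four variables. -/
noncomputable def e1 : MvPolynomial (Fin 4) k := X 0 + X 1 + X 2 + X 3
/-- `e₂` in four variables. -/
noncomputable def e2 : MvPolynomial (Fin 4) k :=
  X 0 * X 1 + X 0 * X 2 + X 0 * X 3 + X 1 * X 2 + X 1 * X 3 + X 2 * X 3
/-- `e₃` in four variables. -/
noncomputable def e3 : MvPolynomial (Fin 4) k :=
  X 0 * X 1 * X 2 + X 0 * X 1 * X 3 + X 0 * X 2 * X 3 + X 1 * X 2 * X 3
/-- `e₄` in four variables. -/
noncomputable def e4 : MvPolynomial (Fin 4) k := X 0 * X 1 * X 2 * X 3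

theorem prime_t2 : Prime (X 0 * X 1 + X 0 * X 2 + X 1 * X 2 : MvPolynomial (Fin 3) k) := by
  rw [← MulEquiv.prime_iff (finSuccEquiv k 2).toMulEquiv]
  have : (finSuccEquiv k 2).toMulEquiv (X 0 * X 1 + X 0 * X 2 + X 1 * X 2) =
      Polynomial.C (X 0 + X 1) * Polynomial.X + Polynomial.C (X 0 * X 1) := by
    change finSuccEquiv k 2 _ = _
    rw [show (1 : Fin 3) = Fin.succ 0 from rfl, show (2 : Fin 3) = Fin.succ 1 from rfl]
    simp only [map_add, map_mul, MvPolynomial.finSuccEquiv_X_zero, MvPolynomial.finSuccEquiv_X_succ]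
    ring
  rw [this]
  refine Irreducible.prime (Polynomial.irreducible_C_mul_X_add_C (fun h => ?_) ?_)
  · have := congrArg (eval ![(1 : k), 0]) h
    simp at this
  · have hX : ∀ i : Fin 2, Prime (X i : MvPolynomial (Fin 2) k) := fun i => MvPolynomial.X_prime
    refine IsRelPrime.mul_right ?_ ?_
    · refine ((hX 0).irreducible.isRelPrime_iff_not_dvd.2 fun ⟨c, hc⟩ => ?_).symm
      have := congrArg (eval ![(0 : k), 1]) hc
      simp at this
    · refine ((hX 1).irreducible.isRelPrime_iff_not_dvd.2 fun ⟨c, hc⟩ => ?_).symm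
      have := congrArg (eval ![(1 : k), 0]) hc
      simp at this

theorem prime_h [CharZero k] : Prime (e2 k * e3 k - e1 k * e4 k) := by
  rw [← MulEquiv.prime_iff (finSuccEquiv k 3).toMulEquiv]
  have : (finSuccEquiv k 3).toMulEquiv (e2 k * e3 k - e1 k * e4 k) =
      Polynomial.C ((X 0 + X 1) * (X 1 + X 2) * (X 0 + X 2)) * Polynomial.X ^ 2 +
        Polynomial.C ((X 0 * X 1 + X 0 * X 2 + X 1 * X 2) ^ 2) * Polynomial.X +
        Polynomial.C ((X 0 * X 1 + X 0 * X 2 + X 1 * X 2) * (X 0 * X 1 * X 2)) := by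
    change finSuccEquiv k 3 _ = _
    simp only [e1, e2, e3, e4]
    rw [show (1 : Fin 4) = Fin.succ 0 from rfl, show (2 : Fin 4) = Fin.succ 1 from rfl,
      show (3 : Fin 4) = Fin.succ 2 from rfl]
    simp only [map_add, map_mul, map_sub, map_pow, MvPolynomial.finSuccEquiv_X_zero,
      MvPolynomial.finSuccEquiv_X_succ]
    ring
  rw [this]
  refine (irreducible_quadratic (prime_t2 k) (fun ⟨c, hc⟩ => ?_) fun ⟨c, hc⟩ => ?_).prime
  · have := congrArg (eval ![(2 : k), 2, -1]) hc
    simp at this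
    norm_num at this
  · have := congrArg (eval ![(2 : k), 2, -1]) hc
    simp at this
    norm_num at this

theorem prime_e1 : Prime (e1 k) := by
  rw [← MulEquiv.prime_iff (finSuccEquiv k 3).toMulEquiv]
  have : (finSuccEquiv k 3).toMulEquiv (e1 k) = Polynomial.X - Polynomial.C (-(X 0 + X 1 + X 2)) := by
    change finSuccEquiv k 3 _ = _
    rw [e1, show (1 : Fin 4) = Fin.succ 0 from rfl, show (2 : Fin 4) = Fin.succ 1 from rfl,
      show (3 : Fin 4) = Fin.succ 2 from rfl]
    simp only [map_add, map_neg, MvPolynomial.finSuccEquiv_X_zero, MvPolynomial.finSuccEquiv_X_succ]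
    ring
  rw [this]
  exact Polynomial.prime_X_sub_C _

theorem e2_not_mem : e2 k ∉ Ideal.span {e1 k} := fun h => by
  obtain ⟨c, hc⟩ := Ideal.mem_span_singleton.1 h
  have := congrArg (eval ![(1 : k), -1, 0, 0]) hc
  simp [e1, e2] at this

theorem h_not_dvd_e1 : ¬ (e2 k * e3 k - e1 k * e4 k ∣ e1 k) := fun ⟨c, hc⟩ => by
  have := congrArg (eval ![(1 : k), 0, 0, 0]) hc
  simp [e1, e2, e3, e4] at this

/-- An ideal containing all `eᵢ` contains all variables, if prime. -/
theorem X_mem {p : Ideal (MvPolynomial (Fin 4) k)} [p.IsPrime] (h1 : e1 k ∈ p) (h2 : e2 k ∈ p)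
    (h3 : e3 k ∈ p) (h4 : e4 k ∈ p) (i : Fin 4) : X i ∈ p := by
  refine Ideal.IsPrime.mem_of_pow_mem ‹_› 4 ?_
  have : (X i : MvPolynomial (Fin 4) k) ^ 4 =
      e1 k * X i ^ 3 - e2 k * X i ^ 2 + e3 k * X i - e4 k := by
    simp only [e1, e2, e3, e4]
    fin_cases i <;> simp <;> ring
  rw [this]
  exact p.sub_mem (p.add_mem (p.sub_mem (p.mul_mem_right _ h1) (p.mul_mem_right _ h2)) (p.mul_mem_right _ h3)) h4

theorem two_lt_height {p : Ideal (MvPolynomial (Fin 4) k)} [p.IsPrime] (h : ∀ i, X i ∈ p) : 2 < p.height := by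
  let φ : ℕ → MvPolynomial (Fin 4) k →ₐ[k] MvPolynomial (Fin 4) k := fun j =>
    MvPolynomial.aeval fun i => if (i : ℕ) < j then 0 else X i
  have hmem : ∀ j f, φ j f = 0 → f ∈ p := fun j f hf => by
    have e : (Ideal.Quotient.mkₐ k p).comp (φ j) = Ideal.Quotient.mkₐ k p := MvPolynomial.algHom_ext fun i => by
      have h0 : Ideal.Quotient.mk p (X i) = 0 := Ideal.Quotient.eq_zero_iff_mem.2 (h i)
      by_cases hi : (i : ℕ) < j <;> simp [φ, hi, h0]
    have := DFunLike.congr_fun e f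
    rw [AlgHom.comp_apply, hf, map_zero] at this
    exact Ideal.Quotient.eq_zero_iff_mem.1 this.symm
  have hcomp : ∀ j, (φ (j + 1)).comp (φ j) = φ (j + 1) := fun j => MvPolynomial.algHom_ext fun i => by
    by_cases hi : (i : ℕ) < j
    · simp [φ, hi, show (i : ℕ) ≤ j by omega]
    · simp [φ, hi]
  let K : ℕ → Ideal (MvPolynomial (Fin 4) k) := fun j => RingHom.ker (φ j).toRingHom
  haveI : ∀ j, (K j).IsPrime := fun j => RingHom.ker_isPrime _
  have hlt : ∀ j (hj : j < 4), K j < K (j + 1) := fun j hj => by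
    refine lt_of_le_of_ne (fun f hf => ?_) fun he => ?_
    · change φ (j + 1) f = 0
      rw [← hcomp, AlgHom.comp_apply, show φ j f = 0 from hf, map_zero]
    · have h1 : (X ⟨j, hj⟩ : MvPolynomial (Fin 4) k) ∈ K (j + 1) := by simp [K, φ]
      rw [← he] at h1
      simp [K, φ] at h1
  have a := Ideal.height_strict_mono_of_isPrime (hlt 0 (by norm_num))
  have b := Ideal.height_strict_mono_of_isPrime (hlt 1 (by norm_num))
  have c := Ideal.height_strict_mono_of_isPrime (hlt 2 (by norm_num))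
  have d : (K 3).height ≤ p.height := Ideal.height_mono fun f hf => hmem 3 f hf
  have a' : (1 : ℕ∞) ≤ (K 1).height := ENat.one_le_iff_ne_zero.2 a.ne_bot
  have b' : (2 : ℕ∞) ≤ (K 2).height := (ENat.add_one_le_iff (by simp)).2 (a'.trans_lt b)
  exact b'.trans_lt (c.trans_le d)

open Polynomial (C)

/-- The radical of `(e₂ + e₁Y, e₄ + e₃Y)` is prime. -/
theorem isPrime_radical [CharZero k] :
    (Ideal.span ({C (e2 k) + C (e1 k) * Polynomial.X, C (e4 k) + C (e3 k) * Polynomial.X} :
      Set (MvPolynomial (Fin 4) k)[X])).radical.IsPrime := by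
  set g : (MvPolynomial (Fin 4) k)[X] := C (e2 k) + C (e1 k) * Polynomial.X with hgdef
  set g' : (MvPolynomial (Fin 4) k)[X] := C (e4 k) + C (e3 k) * Polynomial.X with hg'def
  set h := e2 k * e3 k - e1 k * e4 k with hhdef
  haveI : (Ideal.span {h}).IsPrime := (Ideal.span_singleton_prime (prime_h k).ne_zero).2 (prime_h k)
  let D := MvPolynomial (Fin 4) k ⧸ Ideal.span {h}
  let π : MvPolynomial (Fin 4) k →+* FractionRing D :=
    (algebraMap D (FractionRing D)).comp (Ideal.Quotient.mk (Ideal.span {h}))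
  have hπ : ∀ b, π b = 0 ↔ h ∣ b := fun b => by
    rw [← Ideal.mem_span_singleton, ← Ideal.Quotient.eq_zero_iff_mem]
    exact map_eq_zero_iff _ (IsFractionRing.injective D (FractionRing D))
  have he1 : π (e1 k) ≠ 0 := fun h0 => h_not_dvd_e1 k ((hπ _).1 h0)
  have hh0 : π (e2 k) * π (e3 k) - π (e1 k) * π (e4 k) = 0 := by
    rw [← map_mul, ← map_mul, ← map_sub]
    exact (hπ _).2 dvd_rfl
  let φ := Polynomial.eval₂RingHom π (-π (e2 k) / π (e1 k))
  let Q := RingHom.ker φ
  haveI : Q.IsPrime := RingHom.ker_isPrime φ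
  have hIQ : Ideal.span {g, g'} ≤ Q := by
    rw [Ideal.span_le]
    rintro x (rfl | rfl) <;> rw [SetLike.mem_coe, RingHom.mem_ker] <;>
      simp only [φ, hgdef, hg'def, Polynomial.coe_eval₂RingHom, Polynomial.eval₂_add, Polynomial.eval₂_mul,
        Polynomial.eval₂_C, Polynomial.eval₂_X]
    · rw [mul_div_cancel₀ _ he1, add_neg_cancel]
    · apply mul_left_cancel₀ he1
      rw [mul_zero, mul_add, mul_left_comm, mul_div_cancel₀ _ he1]
      linear_combination -hh0
  have red : ∀ f : (MvPolynomial (Fin 4) k)[X], ∃ (n : ℕ) (b : MvPolynomial (Fin 4) k),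
      C (e1 k) ^ n * f - C b ∈ Ideal.span {g} := by
    intro f
    induction f using Polynomial.induction_on' with
    | add f₁ f₂ h₁ h₂ =>
      obtain ⟨n, b, hb⟩ := h₁
      obtain ⟨m, c, hc⟩ := h₂
      refine ⟨n + m, e1 k ^ m * b + e1 k ^ n * c, ?_⟩
      convert add_mem (Ideal.mul_mem_left _ (C (e1 k) ^ m) hb) (Ideal.mul_mem_left _ (C (e1 k) ^ n) hc) using 1
      simp only [map_add, map_mul, map_pow]
      ring
    | monomial n a =>
      refine ⟨n, a * (-e2 k) ^ n, ?_⟩
      rw [Ideal.mem_span_singleton, ← Polynomial.C_mul_X_pow_eq_monomial, map_mul, map_pow, map_neg,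
        show C (e1 k) ^ n * (C a * Polynomial.X ^ n) - C a * (-C (e2 k)) ^ n =
          C a * ((C (e1 k) * Polynomial.X) ^ n - (-C (e2 k)) ^ n) by ring]
      refine Dvd.dvd.mul_left (dvd_trans ⟨1, ?_⟩ (sub_dvd_pow_sub_pow _ _ n)) _
      rw [hgdef]
      ring
  -- no component inside `e₁ = 0`
  have key : ∀ P ∈ (Ideal.span {g, g'}).minimalPrimes, C (e1 k) ∉ P := by
    intro P hP hmem
    haveI : P.IsPrime := hP.1.1
    have hgP : g ∈ P := hP.1.2 (Ideal.subset_span (Or.inl rfl))
    have hg'P : g' ∈ P := hP.1.2 (Ideal.subset_span (Or.inr rfl))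
    have hP2 : P.height ≤ 2 := by
      refine (Ideal.height_le_card_of_mem_minimalPrimes_span (Set.toFinite _) hP).trans ?_
      exact_mod_cast (Set.ncard_insert_le _ _).trans (by simp)
    have he2P : C (e2 k) ∈ P := by
      have := P.sub_mem hgP (P.mul_mem_right Polynomial.X hmem)
      rwa [hgdef, add_sub_cancel_right] at this
    let J : Ideal (MvPolynomial (Fin 4) k) := Ideal.span {e1 k, e2 k}
    have hJP : J.map C ≤ P := by
      rw [Ideal.map_span, Ideal.span_le]
      rintro _ ⟨x, rfl | rfl, rfl⟩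
      · exact hmem
      · exact he2P
    obtain ⟨P', hP', hle⟩ := Ideal.exists_minimalPrimes_le hJP
    haveI : P'.IsPrime := hP'.1.1
    have hne : P' ≠ P := by
      rintro rfl
      let p := P'.comap C
      haveI : p.IsPrime := Ideal.IsPrime.comap C
      haveI : (p.map C).IsPrime := inferInstance
      have hJp : J ≤ p := Ideal.map_le_iff_le_comap.1 hP'.1.2
      have hPp : P' ≤ p.map C := hP'.2 ⟨‹_›, Ideal.map_mono hJp⟩ Ideal.map_comap_le
      have hc := Ideal.mem_map_C_iff.1 (hPp hg'P)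
      have h4 : e4 k ∈ p := by simpa [hg'def] using hc 0
      have h3 : e3 k ∈ p := by simpa [hg'def] using hc 1
      have hX := X_mem k (hJp (Ideal.subset_span (Or.inl rfl))) (hJp (Ideal.subset_span (Or.inr rfl))) h3 h4
      have hmin : p ∈ J.minimalPrimes := by
        refine ⟨⟨‹_›, hJp⟩, fun q hq hqp => ?_⟩
        haveI : q.IsPrime := hq.1
        haveI : (q.map C).IsPrime := inferInstance
        intro x hx
        have := Ideal.mem_map_C_iff.1 (hP'.2 ⟨‹_›, Ideal.map_mono hq.2⟩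
          ((Ideal.map_mono hqp).trans Ideal.map_comap_le) hx) 0
        simpa using this
      refine absurd (Ideal.height_le_card_of_mem_minimalPrimes_span (Set.toFinite _) hmin) (not_le.2 ?_)
      refine lt_of_le_of_lt ?_ (two_lt_height k hX)
      exact_mod_cast (Set.ncard_insert_le _ _).trans (by simp)
    let E : Ideal (MvPolynomial (Fin 4) k)[X] := (Ideal.span {e1 k}).map C
    haveI : (Ideal.span {e1 k}).IsPrime := (Ideal.span_singleton_prime (prime_e1 k).ne_zero).2 (prime_e1 k)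
    haveI : E.IsPrime := Ideal.isPrime_map_C_of_isPrime
    have hEP : E < P' := by
      refine lt_of_le_of_ne ((Ideal.map_mono (Ideal.span_mono (by simp))).trans hP'.1.2) fun he => e2_not_mem k ?_
      have : C (e2 k) ∈ E := he ▸ hP'.1.2 (Ideal.mem_map_of_mem C (Ideal.subset_span (Or.inr rfl)))
      simpa using Ideal.mem_map_C_iff.1 this 0
    have hE0 : (⊥ : Ideal (MvPolynomial (Fin 4) k)[X]) < E := by
      refine bot_lt_iff_ne_bot.2 fun hb => (prime_e1 k).ne_zero ?_
      have : C (e1 k) ∈ E := Ideal.mem_map_of_mem C (Ideal.subset_span rfl)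
      rwa [hb, Ideal.mem_bot, Polynomial.C_eq_zero] at this
    have a := Ideal.height_strict_mono_of_isPrime hE0
    have b := Ideal.height_strict_mono_of_isPrime hEP
    have c := Ideal.height_strict_mono_of_isPrime (lt_of_le_of_ne hle hne)
    have a' : (1 : ℕ∞) ≤ E.height := ENat.one_le_iff_ne_zero.2 a.ne_bot
    have b' : (2 : ℕ∞) ≤ P'.height := (ENat.add_one_le_iff (by simp)).2 (a'.trans_lt b)
    exact not_le.2 (b'.trans_lt c) hP2
  have hQ : ∀ P ∈ (Ideal.span {g, g'}).minimalPrimes, Q ≤ P := by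
    intro P hP f hf
    haveI : P.IsPrime := hP.1.1
    have hgP : g ∈ P := hP.1.2 (Ideal.subset_span (Or.inl rfl))
    have hhP : C h ∈ P := by
      have := P.sub_mem (P.mul_mem_left (C (e3 k)) hgP) (P.mul_mem_left (C (e1 k))
        (hP.1.2 (Ideal.subset_span (Or.inr rfl)) : g' ∈ P))
      convert this using 1
      simp only [hhdef, hgdef, hg'def, map_sub, map_mul]
      ring
    obtain ⟨n, b, hb⟩ := red f
    have hbQ : π b = 0 := by
      have := hIQ (Ideal.span_mono (by simp) hb)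
      rw [RingHom.mem_ker, map_sub, map_mul, show φ f = 0 from hf, mul_zero, zero_sub, neg_eq_zero] at this
      simpa [φ] using this
    obtain ⟨c, rfl⟩ := (hπ b).1 hbQ
    have : C (e1 k) ^ n * f ∈ P := by
      have h1 := P.add_mem ((Ideal.span_singleton_le_iff_mem _).2 hgP hb) (P.mul_mem_right (C c) hhP)
      rwa [← map_mul, sub_add_cancel] at h1
    exact (‹P.IsPrime›.mem_or_mem this).resolve_left fun h' => key P hP (‹P.IsPrime›.mem_of_pow_mem n h')
  rw [le_antisymm ((Ideal.IsRadical.radical_le_iff ‹Q.IsPrime›.isRadical).2 hIQ)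
    ((le_sInf hQ).trans (Ideal.sInf_minimalPrimes).le)]
  infer_instance

end SymIrrLib
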